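import Mathlib

/-!
Lang's theorem for semilinear maps over separably closed fields of characteristic `p`.
-/

universe u v

open Polynomial

namespace Groth.Agent.H9Frob

variable {k : Type u} [Field k] (p : ℕ) [hp : Fact p.Prime] [CharP k p]

/-- The polynomials of the recursion `a₀ = c₀ t^p`, `aᵢ = aᵢ₋₁^p + cᵢ t^p`. -/
noncomputable def langPoly (c : ℕ → k) : ℕ → k[X]
  | 0 => C (c 0) * X ^ p
  | i + 1 => langPoly c i ^ p + C (c (i + 1)) * X ^ p

theorem derivative_langPoly (c : ℕ → k) (i : ℕ) : derivative (langPoly p c i) = 0 := by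
  cases i <;> simp [langPoly, derivative_X_pow, derivative_pow]

theorem eval_zero_langPoly (c : ℕ → k) (i : ℕ) : (langPoly p c i).eval 0 = 0 := by
  induction i with
  | zero => simp [langPoly, hp.out.ne_zero]
  | succ i ih => simp [langPoly, ih, hp.out.ne_zero]

theorem langPoly_eq_zero_or (c : ℕ → k) (i : ℕ) :
    langPoly p c i = 0 ∨ p ≤ (langPoly p c i).natDegree := by
  induction i with
  | zero =>
    by_cases h : c 0 = 0
    · exact Or.inl (by simp [langPoly, h])
    · exact Or.inr (by rw [langPoly, natDegree_C_mul_X_pow p _ h])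
  | succ i ih =>
    rcases ih with h | h
    · by_cases hc : c (i + 1) = 0
      · exact Or.inl (by simp [langPoly, h, hc, hp.out.ne_zero])
      · exact Or.inr (by
          rw [langPoly, h, zero_pow hp.out.ne_zero, zero_add, natDegree_C_mul_X_pow p _ hc])
    · refine Or.inr ?_
      have h1 : (C (c (i + 1)) * X ^ p).natDegree < (langPoly p c i ^ p).natDegree := by
        refine (natDegree_C_mul_X_pow_le (c (i + 1)) p).trans_lt ?_
        rw [natDegree_pow]
        calc p < 2 * p := by have := hp.out.pos; omega
          _ ≤ p * (langPoly p c i).natDegree := Nat.mul_le_mul hp.out.two_le h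
      rw [langPoly, natDegree_add_eq_left_of_natDegree_lt h1, natDegree_pow]
      exact h.trans (Nat.le_mul_of_pos_left _ hp.out.pos)

theorem langPoly_ne_zero (c : ℕ → k) {i j : ℕ} (hji : j ≤ i) (hj : c j ≠ 0) :
    langPoly p c i ≠ 0 := by
  induction i, hji using Nat.le_induction with
  | base =>
    cases j with
    | zero => simp [langPoly, hj]
    | succ j =>
      intro h
      rcases langPoly_eq_zero_or p c j with h0 | h0
      · simp [langPoly, h0, hp.out.ne_zero, hj] at h
      · have := congrArg natDegree (show langPoly p c j ^ p = -(C (c (j + 1)) * X ^ p) from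
          eq_neg_of_add_eq_zero_left h)
        rw [natDegree_pow, natDegree_neg, natDegree_C_mul_X_pow p _ hj] at this
        nlinarith [hp.out.two_le]
  | succ i hi ih =>
    intro h
    have h0 := (langPoly_eq_zero_or p c i).resolve_left ih
    have := congrArg natDegree (show langPoly p c i ^ p = -(C (c (i + 1)) * X ^ p) from
      eq_neg_of_add_eq_zero_left h)
    rw [natDegree_pow, natDegree_neg] at this
    have := natDegree_C_mul_X_pow_le (c (i + 1)) p
    nlinarith [hp.out.two_le]

variable [IsSepClosed k]

theorem exists_pow_sub_self_eq (b : k) : ∃ r : k, r ^ p - r = b := by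
  obtain ⟨r, hr⟩ := IsSepClosed.exists_root (X ^ p - X - C b : k[X]) (by
    rw [degree_eq_natDegree (fun h => by simpa [derivative_X_pow] using congrArg derivative h)]
    have : (X ^ p - X - C b : k[X]).natDegree = p := by
      rw [natDegree_sub_C, natDegree_sub_eq_left_of_natDegree_lt]
      · exact natDegree_X_pow p
      · rw [natDegree_X, natDegree_X_pow]; exact hp.out.one_lt
    rw [this]
    exact_mod_cast hp.out.ne_zero)
    (by rw [separable_def]; simp [derivative_X_pow, isCoprime_one_right, IsCoprime.neg_right])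
  exact ⟨r, by simpa [IsRoot, sub_eq_zero] using hr⟩

variable {V : Type v} [AddCommGroup V] [Module k V] (T : V →+ V)
  (hT : ∀ (r : k) (x : V), T (r • x) = r ^ p • T x)

omit [IsSepClosed k] in
include hT in
theorem injective_of_span [FiniteDimensional k V] (hspan : Submodule.span k (Set.range T) = ⊤) :
    Function.Injective T := by
  let e := Module.finBasis k V
  have hrepr : ∀ x, T x = ∑ i, (e.repr x i) ^ p • T (e i) := fun x => by
    conv_lhs => rw [← e.sum_repr x]
    rw [map_sum]
    exact Finset.sum_congr rfl fun i _ => hT _ _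
  have htop : ⊤ ≤ Submodule.span k (Set.range fun i => T (e i)) := by
    rw [← hspan, Submodule.span_le]
    rintro _ ⟨x, rfl⟩
    rw [hrepr]
    exact Submodule.sum_mem _ fun i _ => Submodule.smul_mem _ _ (Submodule.subset_span ⟨i, rfl⟩)
  have hind := linearIndependent_of_top_le_span_of_card_eq_finrank htop (Fintype.card_fin _)
  refine (injective_iff_map_eq_zero T).mpr fun x hx => e.repr.map_eq_zero_iff.mp (Finsupp.ext fun i => ?_)
  rw [hrepr] at hx
  exact eq_zero_of_pow_eq_zero (Fintype.linearIndependent_iff.mp hind _ hx i)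

include hT in
theorem exists_fixed_ne_zero [FiniteDimensional k V] [Nontrivial V]
    (hspan : Submodule.span k (Set.range T) = ⊤) : ∃ w : V, w ≠ 0 ∧ T w = w := by
  classical
  obtain ⟨v, hv⟩ := exists_ne (0 : V)
  let z : ℕ → V := fun i => (T : V → V)^[i] v
  have hz : ∀ i, T (z i) = z (i + 1) := fun i => (Function.iterate_succ_apply' _ _ _).symm
  have hinj := injective_of_span p T hT hspan
  have hz0 : ∀ i, z i ≠ 0 := fun i => by
    induction i with
    | zero => exact hv
    | succ i ih => rw [← hz]; exact (map_ne_zero_iff T hinj).mpr ih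
  have hex : ∃ m, ¬ LinearIndependent k fun i : Fin m => z i :=
    ⟨Module.finrank k V + 1, fun h => by simpa using h.fintype_card_le_finrank⟩
  obtain ⟨m, hm⟩ : ∃ m, Nat.find hex = m + 1 := ⟨Nat.find hex - 1, by
    have : Nat.find hex ≠ 0 := fun h => Nat.find_spec hex (by
      rw [h]; exact linearIndependent_empty_type)
    omega⟩
  have hind : LinearIndependent k fun i : Fin m => z i :=
    not_not.mp (Nat.find_min hex (by omega : m < Nat.find hex))
  have hdep : ¬ LinearIndependent k fun i : Fin (m + 1) => z i := hm ▸ Nat.find_spec hex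
  have hmem : z m ∈ Submodule.span k (Set.range fun i : Fin m => z i) := by
    by_contra hcon
    refine hdep (linearIndependent_finSucc'.mpr ⟨?_, ?_⟩)
    · exact hind
    · exact hcon
  obtain ⟨c₀, hc₀⟩ := (Submodule.mem_span_range_iff_exists_fun k).mp hmem
  let c : ℕ → k := fun i => if h : i < m then c₀ ⟨i, h⟩ else 0
  have hc : z m = ∑ i ∈ Finset.range m, c i • z i := by
    rw [← hc₀, ← Fin.sum_univ_eq_sum_range (fun i => c i • z i) m]
    exact Finset.sum_congr rfl fun i _ => by simp [c]
  obtain ⟨j, hjm, hj⟩ : ∃ j, j < m ∧ c j ≠ 0 := by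
    by_contra! hcon
    exact hz0 m (hc.trans (Finset.sum_eq_zero fun i hi => by
      rw [hcon i (Finset.mem_range.mp hi), zero_smul]))
  obtain ⟨m, rfl⟩ : ∃ m', m = m' + 1 := ⟨m - 1, by omega⟩
  set P : k[X] := langPoly p c m - X with hP
  have hQ := langPoly_ne_zero p c (by omega : j ≤ m) hj
  have hdeg : p ≤ P.natDegree := by
    have h := (langPoly_eq_zero_or p c m).resolve_left hQ
    rw [hP, natDegree_sub_eq_left_of_natDegree_lt]
    · exact h
    · rw [natDegree_X]; exact hp.out.one_lt.trans_le h
  have hsep : P.Separable := by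
    rw [separable_def, hP, derivative_sub, derivative_langPoly, derivative_X, zero_sub]
    exact isCoprime_one_right.neg_right
  obtain ⟨t, ht, ht0⟩ : ∃ t, t ∈ P.roots.toFinset ∧ t ≠ 0 := by
    refine Finset.exists_mem_ne ?_ 0
    rw [Multiset.toFinset_card_of_nodup (nodup_roots hsep),
      ← (IsSepClosed.splits_of_separable P hsep).natDegree_eq_card_roots]
    exact hp.out.one_lt.trans_le hdeg
  have htm : (langPoly p c m).eval t = t := by
    have h := (mem_roots'.mp (Multiset.mem_toFinset.mp ht)).2
    simpa [hP, IsRoot, sub_eq_zero] using h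
  let a : ℕ → k := fun i => (langPoly p c i).eval t
  refine ⟨∑ i ∈ Finset.range (m + 1), a i • z i, fun h0 => ?_, ?_⟩
  · rw [← Fin.sum_univ_eq_sum_range (fun i => a i • z i) (m + 1)] at h0
    have := Fintype.linearIndependent_iff.mp hind _ h0 ⟨m, Nat.lt_succ_self m⟩
    exact ht0 (htm ▸ this)
  · rw [map_sum]
    simp only [hT, hz]
    rw [Finset.sum_range_succ, hc, Finset.smul_sum, show a m = t from htm]
    simp only [← mul_smul]
    rw [Finset.sum_range_succ' (fun i => (t ^ p * c i) • z i) m,
      Finset.sum_range_succ' (fun i => a i • z i) m, ← add_assoc, ← Finset.sum_add_distrib]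
    congr 1
    · refine Finset.sum_congr rfl fun i _ => ?_
      rw [← add_smul]
      congr 1
      simp [a, langPoly]
      ring
    · congr 1
      simp [a, langPoly]
      ring

include hT in
/-- Lang's theorem: `T - 1` is surjective and has `p ^ n` zeros. -/
theorem surjective_and_card [FiniteDimensional k V] (hspan : Submodule.span k (Set.range T) = ⊤) :
    Function.Surjective (fun x => T x - x) ∧
      Nat.card {x : V // T x = x} = p ^ Module.finrank k V := by
  classical
  induction hn : Module.finrank k V generalizing V with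
  | zero =>
    have : Subsingleton V := Module.finrank_zero_iff.mp hn
    exact ⟨fun b => ⟨0, Subsingleton.elim _ _⟩, by
      rw [pow_zero, Nat.card_eq_one_iff_unique]
      exact ⟨⟨fun a b => Subtype.ext (Subsingleton.elim _ _)⟩, ⟨⟨0, map_zero T⟩⟩⟩⟩
  | succ n ih =>
    have : Nontrivial V := Module.nontrivial_of_finrank_eq_succ hn
    obtain ⟨w, hw0, hw⟩ := exists_fixed_ne_zero p T hT hspan
    let W := Submodule.span k {w}
    have hWfix : ∀ x ∈ W, W.mkQ (T x) = 0 := fun x hx => by
      obtain ⟨r, rfl⟩ := Submodule.mem_span_singleton.mp hx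
      rw [hT, hw]
      exact (Submodule.Quotient.mk_eq_zero _).mpr
        (Submodule.smul_mem _ _ (Submodule.mem_span_singleton_self w))
    let T' : (V ⧸ W) →+ (V ⧸ W) :=
      QuotientAddGroup.lift W.toAddSubgroup (W.mkQ.toAddMonoidHom.comp T) hWfix
    have hT'mk : ∀ x, T' (W.mkQ x) = W.mkQ (T x) := fun x => rfl
    have hT' : ∀ (r : k) (x : V ⧸ W), T' (r • x) = r ^ p • T' x := fun r x => by
      obtain ⟨x, rfl⟩ := W.mkQ_surjective x
      rw [← map_smul, hT'mk, hT'mk, hT, map_smul]
    have hspan' : Submodule.span k (Set.range T') = ⊤ := by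
      rw [eq_top_iff, ← Submodule.map_top W.mkQ |>.trans (LinearMap.range_eq_top.mpr W.mkQ_surjective),
        ← hspan, Submodule.map_span, Submodule.span_le]
      rintro _ ⟨_, ⟨x, rfl⟩, rfl⟩
      exact Submodule.subset_span ⟨W.mkQ x, hT'mk x⟩
    have hfr : Module.finrank k (V ⧸ W) = n := by
      have := Submodule.finrank_quotient_add_finrank W
      rw [finrank_span_singleton hw0, hn] at this
      omega
    obtain ⟨hsurj, hcard⟩ := ih T' hT' hspan' hfr
    have hlift : ∀ b y, T' y - y = W.mkQ b → ∃ x, W.mkQ x = y ∧ T x - x = b := by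
      intro b y h
      obtain ⟨x, rfl⟩ := W.mkQ_surjective y
      rw [hT'mk, ← map_sub, ← sub_eq_zero, ← map_sub, Submodule.mkQ_apply,
        Submodule.Quotient.mk_eq_zero, Submodule.mem_span_singleton] at h
      obtain ⟨s, hs⟩ := h
      obtain ⟨r, hr⟩ := exists_pow_sub_self_eq p (-s)
      refine ⟨x + r • w, ?_, ?_⟩
      · rw [map_add, add_eq_left]
        exact (Submodule.Quotient.mk_eq_zero _).mpr
          (Submodule.smul_mem _ _ (Submodule.mem_span_singleton_self w))
      · rw [map_add, hT, hw, show T x + r ^ p • w - (x + r • w) = (T x - x) + (r ^ p - r) • w by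
          rw [sub_smul]; abel, hr, neg_smul, hs]
        abel
    refine ⟨fun b => ?_, ?_⟩
    · obtain ⟨y, hy⟩ := hsurj (W.mkQ b)
      obtain ⟨x, -, hx⟩ := hlift b y hy
      exact ⟨x, hx⟩
    · let K : AddSubgroup V := AddMonoidHom.eqLocus T (AddMonoidHom.id V)
      let f : K →+ AddMonoidHom.eqLocus T' (AddMonoidHom.id (V ⧸ W)) :=
        { toFun := fun x => ⟨W.mkQ x.1, (hT'mk _).trans (congrArg W.mkQ x.2)⟩
          map_zero' := Subtype.ext (map_zero _)
          map_add' := fun _ _ => Subtype.ext (map_add _ _ _) }
      have hf : Function.Surjective f := fun y => by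
        obtain ⟨x, hx, hx'⟩ := hlift 0 y.1 (by rw [map_zero, sub_eq_zero]; exact y.2)
        exact ⟨⟨x, sub_eq_zero.mp hx'⟩, Subtype.ext hx⟩
      have hker : Nat.card f.ker = p := by
        have : CharP k p := inferInstance
        let F := {r : k // r ^ p = r}
        let g : F → f.ker := fun r => ⟨⟨r.1 • w, show T _ = _ by rw [hT, hw, r.2]; rfl⟩, Subtype.ext
          ((Submodule.Quotient.mk_eq_zero _).mpr
            (Submodule.smul_mem _ _ (Submodule.mem_span_singleton_self w)))⟩
        have hg : Function.Bijective g := by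
          refine ⟨fun r r' h => Subtype.ext (smul_left_injective k hw0
            (congrArg (fun z : f.ker => (z.1.1 : V)) h)), fun z => ?_⟩
          obtain ⟨r, hr⟩ := Submodule.mem_span_singleton.mp
            ((Submodule.Quotient.mk_eq_zero _).mp (congrArg Subtype.val z.2))
          have h2 : T z.1.1 = z.1.1 := z.1.2
          rw [← hr, hT, hw] at h2
          exact ⟨⟨r, smul_left_injective k hw0 h2⟩, Subtype.ext (Subtype.ext hr)⟩
        rw [← Nat.card_eq_of_bijective g hg]
        have hsep : (X ^ p - X : k[X]).Separable := by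
          rw [separable_def]; simp [derivative_X_pow, isCoprime_one_right, IsCoprime.neg_right]
        have hne : (X ^ p - X : k[X]) ≠ 0 := FiniteField.X_pow_card_sub_X_ne_zero k hp.out.one_lt
        have hset : {r : k | r ^ p = r} = (X ^ p - X : k[X]).roots.toFinset := by
          ext r
          simp [mem_roots hne, sub_eq_zero]
        rw [show Nat.card F = Set.ncard {r : k | r ^ p = r} from rfl, hset,
          Set.ncard_coe_finset, Multiset.toFinset_card_of_nodup (nodup_roots hsep),
          ← (IsSepClosed.splits_of_separable _ hsep).natDegree_eq_card_roots,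
          FiniteField.X_pow_card_sub_X_natDegree_eq k hp.out.one_lt]
      rw [show {x : V // T x = x} = K from rfl, AddSubgroup.card_eq_card_quotient_mul_card_addSubgroup f.ker,
        Nat.card_congr (QuotientAddGroup.quotientKerEquivOfSurjective f hf).toEquiv, hker,
        show Nat.card (AddMonoidHom.eqLocus T' (AddMonoidHom.id (V ⧸ W))) = p ^ n from hcard,
        pow_succ]

end Groth.Agent.H9Frob
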