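import Mathlib
import Groth.Agent.H9Frob.LangField
import Groth.Agent.H9Hens.Newton
import Groth.Agent.H9Hens.SchemeSections

/-!
Lang's theorem over strictly henselian local rings.
-/

universe u v

namespace Groth.Agent.H9Frob

/-- A surjection commuting with `T` and bijective on fixed points transfers the count. -/
theorem surjective_and_card_of_lift {M : Type v} {V : Type u} [AddCommGroup M] [AddCommGroup V]
    (T : M →+ M) (T' : V →+ V) (π : M →+ V) (hπ : Function.Surjective π)
    (hc : ∀ x, T' (π x) = π (T x))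
    (hlift : ∀ b x₀, π (T x₀ - x₀) = π b → ∃ x, π x = π x₀ ∧ T x - x = b)
    (huniq : ∀ x, π x = 0 → T x = x → x = 0) {N : ℕ}
    (h : Function.Surjective (fun y => T' y - y) ∧ Nat.card {y : V // T' y = y} = N) :
    Function.Surjective (fun x => T x - x) ∧ Nat.card {x : M // T x = x} = N := by
  refine ⟨fun b => ?_, ?_⟩
  · obtain ⟨y, hy⟩ := h.1 (π b)
    obtain ⟨x₀, rfl⟩ := hπ y
    obtain ⟨x, -, hx⟩ := hlift b x₀ (by rw [map_sub, ← hc]; exact hy)
    exact ⟨x, hx⟩
  · rw [← h.2]
    refine Nat.card_eq_of_bijective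
      (fun x : {x : M // T x = x} => (⟨π x.1, by rw [hc, x.2]⟩ : {y : V // T' y = y})) ⟨?_, ?_⟩
    · intro x x' hxx
      refine Subtype.ext (sub_eq_zero.mp (huniq _ ?_ ?_))
      · rw [map_sub, sub_eq_zero]; exact congrArg Subtype.val hxx
      · rw [map_sub, x.2, x'.2]
    · intro y
      obtain ⟨x₀, hx₀⟩ := hπ y.1
      obtain ⟨x, hx, hx'⟩ := hlift 0 x₀ (by rw [map_sub, ← hc, hx₀, y.2, sub_self, map_zero])
      exact ⟨⟨x, sub_eq_zero.mp hx'⟩, Subtype.ext (hx.trans hx₀)⟩

open TensorProduct in
theorem lang_henselian (p : ℕ) [Fact p.Prime] {R : Type u} [CommRing R]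
    [HenselianLocalRing R] [IsSepClosed (IsLocalRing.ResidueField R)] [CharP R p]
    {M : Type v} [AddCommGroup M] [Module R M] [Module.Free R M] [Module.Finite R M]
    (T : M →+ M) (hT : ∀ (r : R) (m : M), T (r • m) = r ^ p • T m)
    (hspan : Submodule.span R (Set.range T) = ⊤) :
    Function.Surjective (fun m => T m - m) ∧ Nat.card {m : M // T m = m} = p ^ Module.finrank R M := by
  classical
  let n := Module.finrank R M
  let e : Module.Basis (Fin n) R M := Module.finBasis R M
  have hrepr : ∀ x, T x = ∑ i, (e.repr x i) ^ p • T (e i) := fun x => by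
    conv_lhs => rw [← e.sum_repr x]
    rw [map_sum]
    exact Finset.sum_congr rfl fun i _ => hT _ _
  have htop : ⊤ ≤ Submodule.span R (Set.range fun i => T (e i)) := by
    rw [← hspan, Submodule.span_le]
    rintro _ ⟨x, rfl⟩
    rw [hrepr]
    exact Submodule.sum_mem _ fun i _ => Submodule.smul_mem _ _ (Submodule.subset_span ⟨i, rfl⟩)
  have hsymm : ∀ (a : Fin n → R) i, e.repr (e.equivFun.symm a) i = a i := fun a i =>
    congrFun (e.equivFun.apply_symm_apply a) i
  -- the matrix of `T`
  let A : Matrix (Fin n) (Fin n) R := Matrix.of fun i j => e.repr (T (e j)) i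
  have hA : IsUnit A.det := by
    have hsurj : Function.Surjective A.mulVec := fun y => by
      obtain ⟨c, hc⟩ := (Submodule.mem_span_range_iff_exists_fun R).mp
        (htop (Submodule.mem_top (x := e.equivFun.symm y)))
      refine ⟨c, funext fun i => ?_⟩
      have := congrArg (fun z => e.repr z i) hc
      simp only [hsymm] at this
      simp [map_sum, map_smul, Finsupp.smul_apply] at this
      simp [Matrix.mulVec, dotProduct, A, ← this, mul_comm]
    exact (Matrix.isUnit_iff_isUnit_det A).mp (Matrix.mulVec_surjective_iff_isUnit.mp hsurj)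
  have hdef : ∀ x i, e.repr (T x) i = ∑ j, A i j * (e.repr x j) ^ p := fun x i => by
    rw [hrepr]
    simp [map_sum, map_smul, Finsupp.smul_apply, A, mul_comm]
  -- reduction
  let K := IsLocalRing.ResidueField R
  have hKp : CharP K p := (CharP.charP_iff_prime_eq_zero (Fact.out : p.Prime)).mpr
    (by rw [← map_natCast (IsLocalRing.residue R), CharP.cast_eq_zero, map_zero])
  let Ā : Matrix (Fin n) (Fin n) K := A.map (IsLocalRing.residue R)
  let T' : (Fin n → K) →+ (Fin n → K) :=
    { toFun := fun y => Ā.mulVec (fun j => y j ^ p)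
      map_zero' := by funext i; simp [Matrix.mulVec, dotProduct, (Fact.out : p.Prime).ne_zero]
      map_add' := fun y y' => by
        rw [← Matrix.mulVec_add]; congr 1; funext j; exact add_pow_char _ _ _ }
  let π : M →+ (Fin n → K) :=
    { toFun := fun x i => IsLocalRing.residue R (e.repr x i)
      map_zero' := by funext i; simp
      map_add' := fun x x' => by funext i; simp }
  have hπsurj : Function.Surjective π := fun y => by
    choose r hr using fun i => IsLocalRing.residue_surjective (y i)
    exact ⟨e.equivFun.symm r, funext fun i => (congrArg (IsLocalRing.residue R) (hsymm r i)).trans (hr i)⟩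
  have hc : ∀ x, T' (π x) = π (T x) := fun x => funext fun i => by
    simp [T', π, hdef, Matrix.mulVec, dotProduct, Ā]
  have hT' : ∀ (r : K) (y : Fin n → K), T' (r • y) = r ^ p • T' y := fun r y => by
    simp only [T', AddMonoidHom.coe_mk, ZeroHom.coe_mk, ← Matrix.mulVec_smul]
    congr 1; funext j; simp [mul_pow]
  have hspan' : Submodule.span K (Set.range T') = ⊤ := by
    rw [eq_top_iff]
    rintro y -
    obtain ⟨x, rfl⟩ := hπsurj y
    have hx : x ∈ Submodule.span R (Set.range T) := by rw [hspan]; trivial
    induction hx using Submodule.span_induction with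
    | mem z hz => obtain ⟨w, rfl⟩ := hz; rw [← hc]; exact Submodule.subset_span ⟨_, rfl⟩
    | zero => simp
    | add a b _ _ ha hb => rw [map_add]; exact Submodule.add_mem _ ha hb
    | smul r a _ ha =>
      rw [show π (r • a) = IsLocalRing.residue R r • π a from funext fun i => by simp [π]]
      exact Submodule.smul_mem _ _ ha
  have hfield := surjective_and_card p T' hT' hspan'
  rw [Module.finrank_fin_fun] at hfield
  refine surjective_and_card_of_lift T T' π hπsurj hc (fun b x₀ h0 => ?_) (fun x hx hTx => ?_) hfield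
  · have := H9Hens.henselianRing_maximalIdeal R
    let P : Fin n → MvPolynomial (Fin n) R := fun i =>
      ∑ j, MvPolynomial.C (A i j) * MvPolynomial.X j ^ p - MvPolynomial.X i -
        MvPolynomial.C (e.repr b i)
    have hev : ∀ (a : Fin n → R) i, MvPolynomial.eval a (P i) =
        e.repr (T (e.equivFun.symm a) - e.equivFun.symm a - b) i := fun a i => by
      simp only [map_sub, Finsupp.sub_apply, hdef, hsymm]
      simp [P, map_sum]
    have hres : ∀ r : R, r ∈ IsLocalRing.maximalIdeal R ↔ IsLocalRing.residue R r = 0 := fun r =>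
      (IsLocalRing.residue_eq_zero_iff r).symm
    obtain ⟨a, ha, ha'⟩ := H9Hens.exists_zero_of_jacobian (I := IsLocalRing.maximalIdeal R) P
      (e.equivFun x₀) (fun i => by
        rw [hev, LinearEquiv.symm_apply_apply, hres]
        have := congrFun h0 i
        simp [π] at this
        simp [this]) (by
        have hp0 : (p : R) = 0 := CharP.cast_eq_zero R p
        have : (Matrix.of fun i j => MvPolynomial.eval (e.equivFun x₀) (MvPolynomial.pderiv j (P i))) = -1 := by
          ext i j
          rcases eq_or_ne j i with rfl | hji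
          · simp [P, map_sum, MvPolynomial.pderiv_pow, hp0]
          · simp [P, map_sum, MvPolynomial.pderiv_pow, hp0, MvPolynomial.pderiv_X_of_ne hji.symm, hji.symm]
        rw [this, Matrix.det_neg, Matrix.det_one, mul_one]
        exact ((isUnit_one.neg).pow _).map _)
    refine ⟨e.equivFun.symm a, funext fun i => ?_, e.ext_elem fun i => ?_⟩
    · show IsLocalRing.residue R (e.repr (e.equivFun.symm a) i) = IsLocalRing.residue R (e.repr x₀ i)
      rw [← sub_eq_zero, ← map_sub, ← hres, hsymm]
      exact ha' i
    · have := ha i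
      rw [hev, map_sub, Finsupp.sub_apply, sub_eq_zero] at this
      exact this
  · let D : Ideal R := Ideal.span (Set.range fun i => e.repr x i)
    have hD : D ≤ IsLocalRing.maximalIdeal R := by
      rw [Ideal.span_le]
      rintro _ ⟨i, rfl⟩
      exact (IsLocalRing.residue_eq_zero_iff _).mp (congrFun hx i)
    have hD2 : D ≤ IsLocalRing.maximalIdeal R * D := by
      rw [Ideal.span_le]
      rintro _ ⟨i, rfl⟩
      show e.repr x i ∈ _
      rw [← hTx, hdef]
      refine Ideal.sum_mem _ fun j _ => Ideal.mul_mem_left _ _ ?_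
      have hj : e.repr x j ∈ D := Ideal.subset_span ⟨j, rfl⟩
      obtain ⟨q, hq⟩ : ∃ q, p = q + 2 := ⟨p - 2, by have := (Fact.out : p.Prime).two_le; omega⟩
      rw [hq, pow_succ]
      refine Ideal.mul_mem_mul (hD ?_) hj
      rw [pow_succ]
      exact D.mul_mem_left _ hj
    have hD0 : D = ⊥ := Submodule.eq_bot_of_le_smul_of_le_jacobson_bot (IsLocalRing.maximalIdeal R) D
      (Submodule.fg_span (Set.finite_range _)) hD2 (IsLocalRing.maximalIdeal_le_jacobson ⊥)
    exact e.ext_elem fun i => by
      rw [map_zero, Finsupp.zero_apply, ← Ideal.mem_bot, ← hD0]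
      exact Ideal.subset_span ⟨i, rfl⟩

/-- Lang's theorem for a bijective semilinear map on a finite module. -/
theorem lang_of_bijective (p : ℕ) [Fact p.Prime] {R : Type u} [CommRing R] [IsLocalRing R]
    [IsSepClosed (IsLocalRing.ResidueField R)] [CharP R p] [IsNoetherianRing R] {M : Type v}
    [AddCommGroup M] [Module R M] [Module.Finite R M] (T : M →+ M) (hT : ∀ (r : R) (m : M), T (r • m) = r ^ p • T m)
    (hbij : Function.Bijective T) :
    Function.Surjective (fun m => T m - m) ∧ Nat.card {m : M // T m = m} =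
      p ^ Module.finrank (IsLocalRing.ResidueField R)
        (TensorProduct R (IsLocalRing.ResidueField R) M) := by
  let K := IsLocalRing.ResidueField R
  let m := IsLocalRing.maximalIdeal R
  have hKp : CharP K p := (CharP.charP_iff_prime_eq_zero (Fact.out : p.Prime)).mpr
    (by rw [← map_natCast (IsLocalRing.residue R), CharP.cast_eq_zero, map_zero])
  let V := TensorProduct R K M
  let π : M →+ V := (TensorProduct.mk R K M 1).toAddMonoidHom
  have hker : ∀ x, π x = 0 ↔ x ∈ m • (⊤ : Submodule R M) := fun x => by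
    have h := (TensorProduct.quotTensorEquivQuotSMul M m).map_eq_zero_iff
      (x := Ideal.Quotient.mk m 1 ⊗ₜ[R] x)
    rw [TensorProduct.quotTensorEquivQuotSMul_mk_tmul, one_smul, Submodule.Quotient.mk_eq_zero] at h
    exact h.symm
  have hπ : Function.Surjective π :=
    TensorProduct.mk_surjective R M K IsLocalRing.residue_surjective
  have hstab : ∀ x ∈ m • (⊤ : Submodule R M), π (T x) = 0 := fun x hx => by
    refine Submodule.smul_induction_on hx (fun r hr z _ => ?_) fun a b ha hb => ?_
    · rw [hT, hker]
      exact Submodule.smul_mem_smul (Ideal.pow_mem_of_mem m hr p (Fact.out : p.Prime).pos) trivial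
    · rw [map_add, map_add, ha, hb, add_zero]
  let g := Function.surjInv hπ
  have hg : ∀ x, π (T (g (π x))) = π (T x) := fun x => by
    rw [← sub_eq_zero, ← map_sub, ← map_sub]
    exact hstab _ ((hker _).mp (by rw [map_sub, Function.surjInv_eq hπ, sub_self]))
  let T' : V →+ V :=
    { toFun := fun v => π (T (g v))
      map_zero' := by rw [← map_zero π, hg, map_zero T]
      map_add' := fun a b => by
        obtain ⟨a, rfl⟩ := hπ a
        obtain ⟨b, rfl⟩ := hπ b
        rw [← map_add π, hg, hg, hg, map_add, map_add] }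
  have hπsmul : ∀ (r : R) (x : M), π (r • x) = IsLocalRing.residue R r • π x := fun r x => by
    show (1 : K) ⊗ₜ[R] (r • x) = IsLocalRing.residue R r • ((1 : K) ⊗ₜ[R] x)
    rw [TensorProduct.tmul_smul, ← algebraMap_smul K r]
    rfl
  have hT' : ∀ (r : K) (v : V), T' (r • v) = r ^ p • T' v := fun r v => by
    obtain ⟨r, rfl⟩ := IsLocalRing.residue_surjective r
    obtain ⟨v, rfl⟩ := hπ v
    show π (T (g (_ • π v))) = _ • π (T (g (π v)))
    rw [← hπsmul, hg, hg, hT, hπsmul, map_pow]
  have hspan' : Submodule.span K (Set.range T') = ⊤ := by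
    refine eq_top_iff.mpr fun v _ => ?_
    obtain ⟨x, rfl⟩ := hπ v
    obtain ⟨y, rfl⟩ := hbij.2 x
    exact Submodule.subset_span ⟨π y, hg y⟩
  have hinj := injective_of_span p T' hT' hspan'
  have hbot : m • (⊤ : Submodule R M) = ⊥ := by
    refine Submodule.eq_bot_of_le_smul_of_le_jacobson_bot m _ (IsNoetherian.noetherian _) ?_
      (IsLocalRing.maximalIdeal_le_jacobson ⊥)
    intro z hz
    obtain ⟨x, rfl⟩ := hbij.2 z
    have hx : x ∈ m • (⊤ : Submodule R M) := (hker _).mp (hinj (by
      rw [map_zero T']; exact (hg x).trans ((hker _).mpr hz)))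
    refine Submodule.smul_induction_on hx (fun r hr y _ => ?_) fun a b ha hb => ?_
    · rw [hT]
      obtain ⟨q, hq⟩ : ∃ q, p = q + 2 := ⟨p - 2, by have := (Fact.out : p.Prime).two_le; omega⟩
      rw [hq, pow_succ, mul_smul, pow_succ, mul_smul]
      exact Submodule.smul_mem _ _ (Submodule.smul_mem_smul hr (Submodule.smul_mem_smul hr trivial))
    · rw [map_add]; exact Submodule.add_mem _ ha hb
  refine surjective_and_card_of_lift T T' π hπ hg (fun b x₀ h0 => ⟨x₀, rfl, ?_⟩)
    (fun x hx _ => (Submodule.mem_bot R).mp (hbot ▸ (hker x).mp hx)) (surjective_and_card p T' hT' hspan')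
  rw [← sub_eq_zero, ← Submodule.mem_bot R, ← hbot, ← hker, map_sub, h0, sub_self]

end Groth.Agent.H9Frob
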